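import Mathlib.RingTheory.Bialgebra.Basic
import Mathlib.RingTheory.Bialgebra.Hom
import Mathlib.RingTheory.TensorProduct.Basic
import Mathlib.LinearAlgebra.TensorProduct.Tower

/-!
# OUT1: from an equivariant pairing `A ⊗ T → T` up to `δ ^ N` to a comodule map over `B`

`k` a commutative ring, `A`, `B` commutative bialgebras, `φ : A → B` a map of algebras and
coalgebras, `δ : A` group-like, `ε : B` with `φ δ * ε = 1` (application: `A = O(Mat_n)`, `δ = det`,
`B = O(GL_n)`, `ε = det⁻¹`).  A comodule is a linear map `ρ : V → V ⊗ A`.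

`O_K = A ε^K` is the module `A` with the coaction `coK φ ε K : a ↦ Σ a₁ ⊗ φ(a₂) ε^K`, and
`iotaK : A → B, a ↦ φ a * ε^K` is its embedding in `B`; `δ^K ↦ 1`.

`out1`: let `ρ : T → T ⊗ A` and `R : A ⊗ T → T` with `R (δ^N ⊗ t) = t` and `R` a map of comodules
from `A ⊗ T` to `T ⊗ δ^N`.  For `K ≤ N` the map `s (a ⊗ t) = R (a δ^(N-K) ⊗ t)` satisfies
`s (δ^K ⊗ t) = t` and is a map of `B`-comodules `O_K ⊗ T → T`.
-/

set_option autoImplicit false

open TensorProduct

namespace Groth.Agent.ResProp.EF.K701.Out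

variable {k : Type*} [CommRing k]

section Defs

variable {A : Type*} [CommRing A] [Algebra k A]
variable {V : Type*} [AddCommGroup V] [Module k V] {W : Type*} [AddCommGroup W] [Module k W]

/-- `f` is a map of comodules. -/
def IsHom (ρ : V →ₗ[k] V ⊗[k] A) (σ : W →ₗ[k] W ⊗[k] A) (f : V →ₗ[k] W) : Prop :=
  σ ∘ₗ f = f.rTensor A ∘ₗ ρ

/-- The coaction twisted by an element of `A`. -/
noncomputable def twist (ρ : V →ₗ[k] V ⊗[k] A) (g : A) : V →ₗ[k] V ⊗[k] A :=
  (LinearMap.mulRight k g).lTensor V ∘ₗ ρ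

/-- `(V ⊗ A) ⊗ (W ⊗ A) → (V ⊗ W) ⊗ A`. -/
noncomputable def mulMid (k : Type*) [CommRing k] (A : Type*) [CommRing A] [Algebra k A]
    (V : Type*) [AddCommGroup V] [Module k V] (W : Type*) [AddCommGroup W] [Module k W] :
    (V ⊗[k] A) ⊗[k] (W ⊗[k] A) →ₗ[k] (V ⊗[k] W) ⊗[k] A :=
  (LinearMap.mul' k A).lTensor (V ⊗[k] W) ∘ₗ
    (TensorProduct.tensorTensorTensorComm k V A W A).toLinearMap

@[simp] lemma mulMid_tmul (v : V) (a : A) (w : W) (b : A) :
    mulMid k A V W ((v ⊗ₜ a) ⊗ₜ (w ⊗ₜ b)) = (v ⊗ₜ w) ⊗ₜ (a * b) := by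
  simp [mulMid]

/-- The tensor product of two comodules. -/
noncomputable def tens (ρ : V →ₗ[k] V ⊗[k] A) (σ : W →ₗ[k] W ⊗[k] A) :
    V ⊗[k] W →ₗ[k] (V ⊗[k] W) ⊗[k] A :=
  mulMid k A V W ∘ₗ TensorProduct.map ρ σ

@[simp] lemma tens_tmul (ρ : V →ₗ[k] V ⊗[k] A) (σ : W →ₗ[k] W ⊗[k] A) (v : V) (w : W) :
    tens ρ σ (v ⊗ₜ w) = mulMid k A V W (ρ v ⊗ₜ σ w) := rfl

variable {B : Type*} [CommRing B] [Algebra k B]

/-- Change of group. -/
noncomputable def push (φ : A →ₐ[k] B) (ρ : V →ₗ[k] V ⊗[k] A) : V →ₗ[k] V ⊗[k] B :=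
  φ.toLinearMap.lTensor V ∘ₗ ρ

lemma rTensor_lTensor {X Y : Type*} [AddCommGroup X] [Module k X] [AddCommGroup Y] [Module k Y]
    (f : V →ₗ[k] W) (g : X →ₗ[k] Y) (x : V ⊗[k] X) :
    f.rTensor Y (g.lTensor V x) = g.lTensor W (f.rTensor X x) := by
  induction x with
  | zero => simp
  | add x y hx hy => simp only [map_add, hx, hy]
  | tmul x a => simp

lemma mulMid_mulRight_left (g : A) (x : V ⊗[k] A) (y : W ⊗[k] A) :
    mulMid k A V W ((LinearMap.mulRight k g).lTensor V x ⊗ₜ y) =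
      (LinearMap.mulRight k g).lTensor (V ⊗[k] W) (mulMid k A V W (x ⊗ₜ y)) := by
  induction x with
  | zero => simp
  | add x y hx hy => simp only [map_add, TensorProduct.add_tmul, hx, hy]
  | tmul x a =>
    induction y with
    | zero => simp
    | add x y hx hy => simp only [map_add, TensorProduct.tmul_add, hx, hy]
    | tmul y b =>
      simp only [LinearMap.lTensor_tmul, LinearMap.mulRight_apply, mulMid_tmul]
      congr 1
      ring

lemma mulMid_push (φ : A →ₐ[k] B) (x : V ⊗[k] A) (y : W ⊗[k] A) :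
    mulMid k B V W (φ.toLinearMap.lTensor V x ⊗ₜ φ.toLinearMap.lTensor W y) =
      φ.toLinearMap.lTensor (V ⊗[k] W) (mulMid k A V W (x ⊗ₜ y)) := by
  induction x with
  | zero => simp
  | add x y hx hy => simp only [map_add, TensorProduct.add_tmul, hx, hy]
  | tmul x a =>
    induction y with
    | zero => simp
    | add x y hx hy => simp only [map_add, TensorProduct.tmul_add, hx, hy]
    | tmul y b => simp

lemma tens_twist_left (ρ : V →ₗ[k] V ⊗[k] A) (σ : W →ₗ[k] W ⊗[k] A) (g : A) :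
    tens (twist ρ g) σ = twist (tens ρ σ) g := by
  refine TensorProduct.ext' fun v w => ?_
  simp only [tens_tmul, twist, LinearMap.comp_apply, mulMid_mulRight_left]

lemma tens_push (φ : A →ₐ[k] B) (ρ : V →ₗ[k] V ⊗[k] A) (σ : W →ₗ[k] W ⊗[k] A) :
    tens (push φ ρ) (push φ σ) = push φ (tens ρ σ) := by
  refine TensorProduct.ext' fun v w => ?_
  simp only [tens_tmul, push, LinearMap.comp_apply, mulMid_push]

lemma twist_twist (ρ : V →ₗ[k] V ⊗[k] A) (g h : A) : twist (twist ρ g) h = twist ρ (g * h) := by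
  refine LinearMap.ext fun v => ?_
  simp only [twist, LinearMap.comp_apply]
  induction ρ v with
  | zero => simp
  | add x y hx hy => simp only [map_add, hx, hy]
  | tmul x a => simp [mul_assoc]

lemma twist_one (ρ : V →ₗ[k] V ⊗[k] A) : twist ρ 1 = ρ := by
  refine LinearMap.ext fun v => ?_
  simp only [twist, LinearMap.comp_apply]
  induction ρ v with
  | zero => simp
  | add x y hx hy => simp only [map_add, hx, hy]
  | tmul x a => simp

lemma push_twist (φ : A →ₐ[k] B) (ρ : V →ₗ[k] V ⊗[k] A) (g : A) :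
    push φ (twist ρ g) = twist (push φ ρ) (φ g) := by
  refine LinearMap.ext fun v => ?_
  simp only [twist, push, LinearMap.comp_apply]
  induction ρ v with
  | zero => simp
  | add x y hx hy => simp only [map_add, hx, hy]
  | tmul x a => simp

lemma IsHom.push {ρ : V →ₗ[k] V ⊗[k] A} {σ : W →ₗ[k] W ⊗[k] A} {f : V →ₗ[k] W}
    (hf : IsHom ρ σ f) (φ : A →ₐ[k] B) : IsHom (push φ ρ) (push φ σ) f := by
  refine LinearMap.ext fun v => ?_
  have h := LinearMap.congr_fun hf v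
  simp only [LinearMap.comp_apply] at h
  simp only [Out.push, LinearMap.comp_apply, h, rTensor_lTensor]

lemma IsHom.twist {ρ : V →ₗ[k] V ⊗[k] A} {σ : W →ₗ[k] W ⊗[k] A} {f : V →ₗ[k] W}
    (hf : IsHom ρ σ f) (g : A) : IsHom (twist ρ g) (twist σ g) f := by
  refine LinearMap.ext fun v => ?_
  have h := LinearMap.congr_fun hf v
  simp only [LinearMap.comp_apply] at h
  simp only [Out.twist, LinearMap.comp_apply, h, rTensor_lTensor]

lemma IsHom.comp {X : Type*} [AddCommGroup X] [Module k X] {ρ : V →ₗ[k] V ⊗[k] A}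
    {σ : W →ₗ[k] W ⊗[k] A} {τ : X →ₗ[k] X ⊗[k] A} {g : W →ₗ[k] X} {f : V →ₗ[k] W}
    (hg : IsHom σ τ g) (hf : IsHom ρ σ f) : IsHom ρ τ (g ∘ₗ f) := by
  unfold IsHom at *
  rw [← LinearMap.comp_assoc, hg, LinearMap.comp_assoc, hf, LinearMap.rTensor_comp,
    LinearMap.comp_assoc]

lemma IsHom.tens_left {ρ : V →ₗ[k] V ⊗[k] A} {σ : W →ₗ[k] W ⊗[k] A} {f : V →ₗ[k] W}
    (hf : IsHom ρ σ f) {X : Type*} [AddCommGroup X] [Module k X] (τ : X →ₗ[k] X ⊗[k] A) :
    IsHom (tens ρ τ) (tens σ τ) (f.rTensor X) := by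
  refine TensorProduct.ext' fun v x => ?_
  have h := LinearMap.congr_fun hf v
  simp only [LinearMap.comp_apply] at h
  simp only [LinearMap.comp_apply, LinearMap.rTensor_tmul, tens_tmul, h]
  generalize ρ v = a
  generalize τ x = b
  induction a with
  | zero => simp
  | add x y hx hy => simp only [map_add, TensorProduct.add_tmul, hx, hy]
  | tmul x a =>
    induction b with
    | zero => simp
    | add x y hx hy => simp only [map_add, TensorProduct.tmul_add, hx, hy]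
    | tmul y b => simp

end Defs

section Main

variable {A : Type*} [CommRing A] [Bialgebra k A] {B : Type*} [CommRing B] [Bialgebra k B]

/-- `a ↦ a g` is a comodule map from the regular comodule twisted by `g`, `g` group-like. -/
lemma mulRight_isHom {g : A} (hg : CoalgebraStruct.comul (R := k) g = g ⊗ₜ[k] g) :
    IsHom (twist (CoalgebraStruct.comul (R := k) (A := A)) g)
      (CoalgebraStruct.comul (R := k) (A := A)) (LinearMap.mulRight k g) := by
  refine LinearMap.ext fun a => ?_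
  simp only [LinearMap.comp_apply, LinearMap.mulRight_apply, twist, Bialgebra.comul_mul, hg]
  induction CoalgebraStruct.comul (R := k) a with
  | zero => simp
  | add x y hx hy => simp only [map_add, add_mul, hx, hy]
  | tmul x y => simp

lemma mulRight_isHom' {g h : A} (hg : CoalgebraStruct.comul (R := k) g = g ⊗ₜ[k] g) :
    IsHom (twist (CoalgebraStruct.comul (R := k) (A := A)) (g * h))
      (twist (CoalgebraStruct.comul (R := k) (A := A)) h) (LinearMap.mulRight k g) := by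
  rw [← twist_twist]
  exact (mulRight_isHom hg).twist h

lemma comul_pow {g : A} (hg : CoalgebraStruct.comul (R := k) g = g ⊗ₜ[k] g) (n : ℕ) :
    CoalgebraStruct.comul (R := k) (g ^ n) = (g ^ n) ⊗ₜ[k] (g ^ n) := by
  rw [Bialgebra.comul_pow, hg, Algebra.TensorProduct.tmul_pow]

/-- The coaction of `O_K = A ε^K` over `B`. -/
noncomputable def coK (φ : A →ₐ[k] B) (ε : B) (K : ℕ) : A →ₗ[k] A ⊗[k] B :=
  twist (push φ (CoalgebraStruct.comul (R := k) (A := A))) (ε ^ K)

/-- The embedding `O_K → B`. -/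
noncomputable def iotaK (φ : A →ₐ[k] B) (ε : B) (K : ℕ) : A →ₗ[k] B :=
  LinearMap.mulRight k (ε ^ K) ∘ₗ φ.toLinearMap

lemma iotaK_apply (φ : A →ₐ[k] B) (ε : B) (K : ℕ) (a : A) : iotaK φ ε K a = φ a * ε ^ K := rfl

lemma iotaK_pow (φ : A →ₐ[k] B) {δ : A} {ε : B} (h : φ δ * ε = 1) (K : ℕ) :
    iotaK φ ε K (δ ^ K) = 1 := by
  rw [iotaK_apply, map_pow, ← mul_pow, h, one_pow]

lemma comul_inv (φ : A →ₐ[k] B) (hφ : ∀ a, CoalgebraStruct.comul (R := k) (φ a) =
      TensorProduct.map φ.toLinearMap φ.toLinearMap (CoalgebraStruct.comul (R := k) a))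
    {δ : A} (hδ : CoalgebraStruct.comul (R := k) δ = δ ⊗ₜ[k] δ) {ε : B} (h : φ δ * ε = 1) :
    CoalgebraStruct.comul (R := k) ε = ε ⊗ₜ[k] ε := by
  have h1 : CoalgebraStruct.comul (R := k) (φ δ) = φ δ ⊗ₜ[k] φ δ := by
    rw [hφ, hδ]
    simp
  have h2 : (φ δ ⊗ₜ[k] φ δ) * CoalgebraStruct.comul (R := k) ε = 1 := by
    rw [← h1, ← Bialgebra.comul_mul, h, Bialgebra.comul_one]
  calc CoalgebraStruct.comul (R := k) ε
      = ((ε ⊗ₜ[k] ε) * (φ δ ⊗ₜ[k] φ δ)) * CoalgebraStruct.comul (R := k) ε := by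
        rw [Algebra.TensorProduct.tmul_mul_tmul, mul_comm ε, h, ← Algebra.TensorProduct.one_def,
          one_mul]
    _ = ε ⊗ₜ[k] ε := by rw [mul_assoc, h2, mul_one]

/-- The embedding `O_K → B` is a comodule map. -/
lemma iotaK_isHom (φ : A →ₐ[k] B) (hφ : ∀ a, CoalgebraStruct.comul (R := k) (φ a) =
      TensorProduct.map φ.toLinearMap φ.toLinearMap (CoalgebraStruct.comul (R := k) a))
    {δ : A} (hδ : CoalgebraStruct.comul (R := k) δ = δ ⊗ₜ[k] δ) {ε : B} (h : φ δ * ε = 1) (K : ℕ) :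
    IsHom (coK φ ε K) (CoalgebraStruct.comul (R := k) (A := B)) (iotaK φ ε K) := by
  have h1 := mulRight_isHom (comul_pow (comul_inv φ hφ hδ h) K)
  refine h1.comp ?_
  have h2 : IsHom (push φ (CoalgebraStruct.comul (R := k) (A := A)))
      (CoalgebraStruct.comul (R := k) (A := B)) φ.toLinearMap := by
    refine LinearMap.ext fun a => ?_
    simp only [LinearMap.comp_apply, AlgHom.toLinearMap_apply, hφ, push]
    induction CoalgebraStruct.comul (R := k) a with
    | zero => simp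
    | add x y hx hy => simp only [map_add, hx, hy]
    | tmul x y => simp
  exact h2.twist (ε ^ K)

variable {T : Type*} [AddCommGroup T] [Module k T]

/-- The map `O_K ⊗ T → T`. -/
noncomputable def sK (δ : A) (N K : ℕ) (R : A ⊗[k] T →ₗ[k] T) : A ⊗[k] T →ₗ[k] T :=
  R ∘ₗ (LinearMap.mulRight k (δ ^ (N - K))).rTensor T

lemma sK_tmul (δ : A) (N K : ℕ) (R : A ⊗[k] T →ₗ[k] T) (a : A) (t : T) :
    sK δ N K R (a ⊗ₜ t) = R ((a * δ ^ (N - K)) ⊗ₜ t) := rfl

/-- OUT1, first half: the unit. -/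
theorem sK_unit {δ : A} {N K : ℕ} (hK : K ≤ N) {R : A ⊗[k] T →ₗ[k] T}
    (hR1 : ∀ t, R ((δ ^ N) ⊗ₜ t) = t) (t : T) : sK δ N K R ((δ ^ K) ⊗ₜ t) = t := by
  rw [sK_tmul, ← pow_add, Nat.add_sub_cancel' hK, hR1]

/-- OUT1, second half: equivariance over `B`. -/
theorem sK_isHom (φ : A →ₐ[k] B) {δ : A} (hδ : CoalgebraStruct.comul (R := k) δ = δ ⊗ₜ[k] δ)
    {ε : B} (h : φ δ * ε = 1) {N K : ℕ} (hK : K ≤ N) (ρ : T →ₗ[k] T ⊗[k] A)
    {R : A ⊗[k] T →ₗ[k] T}
    (hR : IsHom (tens (CoalgebraStruct.comul (R := k) (A := A)) ρ) (twist ρ (δ ^ N)) R) :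
    IsHom (tens (coK φ ε K) (push φ ρ)) (push φ ρ) (sK δ N K R) := by
  -- over `A`: from the twist of `A` by `δ^(N-K)`
  have h1 : IsHom (twist (tens (CoalgebraStruct.comul (R := k) (A := A)) ρ) (δ ^ (N - K)))
      (twist ρ (δ ^ N)) (sK δ N K R) := by
    refine hR.comp ?_
    rw [← tens_twist_left]
    exact (mulRight_isHom (comul_pow hδ (N - K))).tens_left ρ
  have h2 := (h1.push φ).twist (ε ^ N)
  rw [push_twist, push_twist, twist_twist, twist_twist] at h2
  have e1 : φ (δ ^ N) * ε ^ N = 1 := by rw [map_pow, ← mul_pow, h, one_pow]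
  have e2 : φ (δ ^ (N - K)) * ε ^ N = ε ^ K := by
    have : ε ^ N = ε ^ (N - K) * ε ^ K := by rw [← pow_add, Nat.sub_add_cancel hK]
    rw [this, ← mul_assoc, map_pow, ← mul_pow, h, one_pow, one_mul]
  rw [e1, e2, twist_one] at h2
  rw [coK, tens_twist_left, tens_push]
  exact h2

end Main

end Groth.Agent.ResProp.EF.K701.Out
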