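import Groth.Agent.ResProp.EF.K701.OutMod
import Groth.Agent.ResProp.EF.K749.OutDef
import Groth.Agent.ResProp.EF.K653.GpGL
import Groth.Agent.ResProp.EF.K922.DetInj
import Mathlib.LinearAlgebra.TensorProduct.Quotient

/-!
# OUT for `GL_N`: assembly

`killPair_GL`: from a comodule `T` over `O(Mat_N)` and `R : O(Mat_N) ⊗ T → T` with `R (det^n ⊗ t) = t`
and `R` a map of comodules `O(Mat_N) ⊗ T → T ⊗ det^n` (both modulo `p`), a killing pair for `GL_N`
on `O_K = O(Mat_N) det^(-K)`, `K ≤ n`.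

`out_GL_of`: `Out p (GL_N)` from such `T` for arbitrarily large `n`.
-/

set_option autoImplicit false

universe u

open TensorProduct

namespace Groth.Agent.ResProp.EF.K701.GL

open Grp K749 Out

variable (N : ℕ) (k : Type u) [CommRing k]

/-- `GL_N`; the same object as `K653.GpGL N k`. -/
noncomputable abbrev G : Gp k where
  O := CoordGrp.GLn N k
  fr := K653.FreeGLn.free_GLn N k

theorem G_eq : G N k = K653.GpGL N k := rfl

variable {k} in
/-- the map `O(Mat_N) → O(GL_N)` -/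
noncomputable abbrev phi : CoordGrp.Mat N k →ₐ[k] CoordGrp.GLn N k := K922.phi N

theorem comul_phi (a : CoordGrp.Mat N k) : CoalgebraStruct.comul (R := k) (phi N a) =
    TensorProduct.map (phi N).toLinearMap (phi N).toLinearMap (CoalgebraStruct.comul (R := k) a) :=
  (CoalgHomClass.map_comp_comul_apply (CoordGrp.Mat.toGLn N k) a).symm

theorem isGroupLike_Dinv_pow (K : ℕ) :
    IsGroupLikeElem k ((CoordGrp.GLn.Dinv : CoordGrp.GLn N k) ^ K) :=
  IsGroupLikeElem.pow ⟨CoordGrp.GLn.counit_Dinv, CoordGrp.GLn.comul_Dinv⟩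

/-- `O_K = O(Mat_N) det^(-K)` as a module over `GL_N` -/
noncomputable abbrev Ok (K : ℕ) : GMod (G N k) where
  V := CoordGrp.Mat N k
  co := ComodTens.Comod.twist (GLin.comodAlong (CoordGrp.Mat.toGLn N k)
    (HopfRep.Comod.regular k (CoordGrp.Mat N k))) (CoordGrp.GLn.Dinv ^ K) (isGroupLike_Dinv_pow N k K)

variable {N k}

/-- a comodule over `O(Mat_N)` as a module over `GL_N` -/
noncomputable abbrev Tm {T : Type u} [AddCommGroup T] [Module k T]
    (c : HopfRep.Comod k (CoordGrp.Mat N k) T) : GMod (G N k) where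
  V := T
  co := GLin.comodAlong (CoordGrp.Mat.toGLn N k) c

theorem Ok_coact (K : ℕ) : (Ok N k K).co.coact = coK (phi N) CoordGrp.GLn.Dinv K := rfl

theorem Tm_coact {T : Type u} [AddCommGroup T] [Module k T]
    (c : HopfRep.Comod k (CoordGrp.Mat N k) T) : (Tm c).co.coact = push (phi N) c.coact := rfl

theorem tens_coact_eq (M M' : GMod (G N k)) : (M.tens M').co.coact = tens M.co.coact M'.co.coact := by
  refine TensorProduct.ext' fun v w => ?_
  change (ComodTens.Comod.tensor M.co M'.co).coact (v ⊗ₜ[k] w) = _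
  rw [ComodTens.tensor_coact_tmul, tens_tmul]
  generalize M.co.coact v = x
  generalize M'.co.coact w = y
  induction x with
  | zero => simp
  | add x y hx hy => simp only [map_add, TensorProduct.add_tmul, hx, hy]
  | tmul x a =>
    induction y with
    | zero => simp
    | add x y hx hy => simp only [map_add, TensorProduct.tmul_add, hx, hy]
    | tmul y b => simp

theorem inj_iotaK (p : k) (K : ℕ) (o : CoordGrp.Mat N k) (a : CoordGrp.GLn N k)
    (h : iotaK (phi N) CoordGrp.GLn.Dinv K o = p • a) : ∃ o', o = p • o' := by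
  let I : Ideal k := Ideal.span {p}
  have h0 : (1 : k ⧸ I) ⊗ₜ[k] o = 0 := by
    apply K922.injective_lTensor_iotaK (k := k) N K (k ⧸ I)
    rw [map_zero, LinearMap.lTensor_tmul]
    change (1 : k ⧸ I) ⊗ₜ[k] (iotaK (phi N) CoordGrp.GLn.Dinv K o) = 0
    rw [h, TensorProduct.tmul_smul, TensorProduct.smul_tmul']
    have : p • (1 : k ⧸ I) = 0 := by
      rw [← map_one (Ideal.Quotient.mk I), ← Ideal.Quotient.mkₐ_eq_mk k, ← map_smul,
        Ideal.Quotient.mkₐ_eq_mk, Ideal.Quotient.eq_zero_iff_mem, smul_eq_mul, mul_one]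
      exact Ideal.mem_span_singleton_self p
    rw [this, TensorProduct.zero_tmul]
  have h1 := congrArg (TensorProduct.quotTensorEquivQuotSMul (CoordGrp.Mat N k) I) h0
  rw [map_zero, ← map_one (Ideal.Quotient.mk I), TensorProduct.quotTensorEquivQuotSMul_mk_tmul,
    one_smul, Submodule.Quotient.mk_eq_zero] at h1
  rw [Submodule.ideal_span_singleton_smul, Submodule.mem_smul_pointwise_iff_exists] at h1
  obtain ⟨o', -, ho'⟩ := h1
  exact ⟨o', ho'.symm⟩

theorem coK_pow_det (K : ℕ) : coK (phi N) CoordGrp.GLn.Dinv K (CoordGrp.Mat.det N k ^ K) =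
    (CoordGrp.Mat.det N k ^ K) ⊗ₜ[k] (1 : CoordGrp.GLn N k) := by
  rw [coK, twist, push, LinearMap.comp_apply, LinearMap.comp_apply,
    comul_pow CoordGrp.Mat.comul_det, LinearMap.lTensor_tmul, LinearMap.lTensor_tmul,
    LinearMap.mulRight_apply, AlgHom.toLinearMap_apply, map_pow, ← mul_pow, K922.phi_det, one_pow]

/-- OUT for `GL_N`, one stage. -/
theorem killPair_GL {p n K : ℕ} (hK : K ≤ n) {T : Type u} [AddCommGroup T] [Module k T]
    (c : HopfRep.Comod k (CoordGrp.Mat N k) T) (R : CoordGrp.Mat N k ⊗[k] T →ₗ[k] T)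
    (hR1 : ∀ t, ∃ y, R ((CoordGrp.Mat.det N k ^ n) ⊗ₜ t) = t + (p : k) • y)
    (hR : IsHomMod (p : k) (tens (CoalgebraStruct.comul (R := k) (A := CoordGrp.Mat N k)) c.coact)
      (twist c.coact (CoordGrp.Mat.det N k ^ n)) R) :
    KillPair p (G := G N k) (Tm c) (Ok N k K) (iotaK (phi N) CoordGrp.GLn.Dinv K)
      (CoordGrp.Mat.det N k ^ K) (sK (CoordGrp.Mat.det N k) n K R) where
  freeO := inferInstanceAs (Module.Free k (MvPolynomial (Fin N × Fin N) k))
  inj := inj_iotaK (p : k) K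
  hom_j := by
    intro o
    exact LinearMap.congr_fun (iotaK_isHom (phi N) (comul_phi N k) CoordGrp.Mat.comul_det
      (K922.phi_det N) K) o
  j_e := iotaK_pow (phi N) (K922.phi_det N) K
  inv_e := coK_pow_det K
  unit := by
    intro t
    obtain ⟨y, hy⟩ := sK_unit_mod hK hR1 t
    exact ⟨y, by rw [hy]; abel⟩
  hom_s := by
    intro z
    obtain ⟨y, hy⟩ := sK_isHomMod (phi N) CoordGrp.Mat.comul_det (K922.phi_det N) hK c.coact hR z
    refine ⟨y, ?_⟩
    rw [tens_coact_eq, Ok_coact, Tm_coact, hy]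
    abel

/-- The input of `out_GL_of`: for arbitrarily large `n` a lattice `T` with `R`. -/
def Input (p N : ℕ) (k : Type u) [CommRing k] : Prop :=
  ∀ K : ℕ, ∃ (n : ℕ) (_ : K ≤ n) (T : Type u) (_ : AddCommGroup T) (_ : Module k T)
    (c : HopfRep.Comod k (CoordGrp.Mat N k) T) (R : CoordGrp.Mat N k ⊗[k] T →ₗ[k] T),
    Module.Free k T ∧ Module.Finite k T ∧ Nontrivial T ∧
    (∀ t, ∃ y, R ((CoordGrp.Mat.det N k ^ n) ⊗ₜ t) = t + (p : k) • y) ∧
    IsHomMod (p : k) (tens (CoalgebraStruct.comul (R := k) (A := CoordGrp.Mat N k)) c.coact)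
      (twist c.coact (CoordGrp.Mat.det N k ^ n)) R

theorem out_GL_of {p : ℕ} (h : Input p N k) : Out p (K653.GpGL N k) := by
  change Out p (G N k)
  intro W hW
  obtain ⟨F, hF⟩ := hW
  obtain ⟨K, hK⟩ := K922.exists_iotaK_finset (k := k) N F
  obtain ⟨n, hn, T, _, _, c, R, h1, h2, h3, h4, h5⟩ := h K
  refine ⟨Tm c, Ok N k K, iotaK (phi N) CoordGrp.GLn.Dinv K, CoordGrp.Mat.det N k ^ K,
    sK (CoordGrp.Mat.det N k) n K R, ⟨h1, h2, h3⟩, killPair_GL hn c R h4 h5, ?_⟩
  rw [← hF, Submodule.span_le]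
  exact fun b hb => hK b hb

end Groth.Agent.ResProp.EF.K701.GL
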