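import Groth.Agent.ResProp.EF.K701.OutOne

/-!
# OUT1 modulo `p`

The same as `OutOne`, for maps which are maps of comodules only modulo `p : k` (`IsHomMod p`).
For a module `M` with `p M = 0` they give honest comodule maps after `M ⊗ -` (`isHom_lTensor`).

* `sK_unit_mod`, `sK_isHomMod`: OUT1 modulo `p`.
* `KP`: the output of OUT1 as a structure over a bialgebra `B` (`O`, `T`, `s`), and `KP.ofRR`.
-/

set_option autoImplicit false

open TensorProduct

namespace Groth.Agent.ResProp.EF.K701.Out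

variable {k : Type*} [CommRing k]

section Defs

variable {A : Type*} [CommRing A] [Algebra k A]
variable {V : Type*} [AddCommGroup V] [Module k V] {W : Type*} [AddCommGroup W] [Module k W]

/-- `f` is a map of comodules modulo `p`. -/
def IsHomMod (p : k) (ρ : V →ₗ[k] V ⊗[k] A) (σ : W →ₗ[k] W ⊗[k] A) (f : V →ₗ[k] W) : Prop :=
  ∀ v, ∃ y, σ (f v) = f.rTensor A (ρ v) + p • y

lemma IsHom.toMod {ρ : V →ₗ[k] V ⊗[k] A} {σ : W →ₗ[k] W ⊗[k] A} {f : V →ₗ[k] W}
    (hf : IsHom ρ σ f) (p : k) : IsHomMod p ρ σ f := fun v =>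
  ⟨0, by rw [smul_zero, add_zero]; exact LinearMap.congr_fun hf v⟩

variable {B : Type*} [CommRing B] [Algebra k B] {p : k}

lemma IsHomMod.push {ρ : V →ₗ[k] V ⊗[k] A} {σ : W →ₗ[k] W ⊗[k] A} {f : V →ₗ[k] W}
    (hf : IsHomMod p ρ σ f) (φ : A →ₐ[k] B) : IsHomMod p (push φ ρ) (push φ σ) f := by
  intro v
  obtain ⟨y, hy⟩ := hf v
  refine ⟨φ.toLinearMap.lTensor W y, ?_⟩
  simp only [Out.push, LinearMap.comp_apply, hy, rTensor_lTensor, map_add, map_smul]

lemma IsHomMod.twist {ρ : V →ₗ[k] V ⊗[k] A} {σ : W →ₗ[k] W ⊗[k] A} {f : V →ₗ[k] W}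
    (hf : IsHomMod p ρ σ f) (g : A) : IsHomMod p (twist ρ g) (twist σ g) f := by
  intro v
  obtain ⟨y, hy⟩ := hf v
  refine ⟨(LinearMap.mulRight k g).lTensor W y, ?_⟩
  simp only [Out.twist, LinearMap.comp_apply, hy, rTensor_lTensor, map_add, map_smul]

lemma IsHomMod.comp {X : Type*} [AddCommGroup X] [Module k X] {ρ : V →ₗ[k] V ⊗[k] A}
    {σ : W →ₗ[k] W ⊗[k] A} {τ : X →ₗ[k] X ⊗[k] A} {g : W →ₗ[k] X} {f : V →ₗ[k] W}
    (hg : IsHomMod p σ τ g) (hf : IsHomMod p ρ σ f) : IsHomMod p ρ τ (g ∘ₗ f) := by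
  intro v
  obtain ⟨y, hy⟩ := hf v
  obtain ⟨z, hz⟩ := hg (f v)
  refine ⟨g.rTensor A y + z, ?_⟩
  rw [LinearMap.comp_apply, hz, hy, map_add, map_smul, LinearMap.rTensor_comp,
    LinearMap.comp_apply, smul_add, add_assoc]

lemma IsHomMod.tens_left {ρ : V →ₗ[k] V ⊗[k] A} {σ : W →ₗ[k] W ⊗[k] A} {f : V →ₗ[k] W}
    (hf : IsHomMod p ρ σ f) {X : Type*} [AddCommGroup X] [Module k X] (τ : X →ₗ[k] X ⊗[k] A) :
    IsHomMod p (tens ρ τ) (tens σ τ) (f.rTensor X) := by
  intro x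
  induction x with
  | zero => exact ⟨0, by simp⟩
  | add x y hx hy =>
    obtain ⟨u, hu⟩ := hx
    obtain ⟨v, hv⟩ := hy
    exact ⟨u + v, by rw [map_add, map_add, hu, hv, map_add, map_add, smul_add]; abel⟩
  | tmul v x =>
    obtain ⟨y, hy⟩ := hf v
    refine ⟨mulMid k A W X (y ⊗ₜ τ x), ?_⟩
    rw [LinearMap.rTensor_tmul, tens_tmul, hy, tens_tmul, TensorProduct.add_tmul, map_add,
      ← TensorProduct.smul_tmul', map_smul]
    congr 1
    generalize ρ v = a
    generalize τ x = b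
    induction a with
    | zero => simp
    | add x y hx hy => simp only [map_add, TensorProduct.add_tmul, hx, hy]
    | tmul x a =>
      induction b with
      | zero => simp
      | add x y hx hy => simp only [map_add, TensorProduct.tmul_add, hx, hy]
      | tmul y b => simp

/-- For `p M = 0` a comodule map modulo `p` becomes a comodule map after `M ⊗ -`. -/
lemma isHom_lTensor {M : Type*} [AddCommGroup M] [Module k M] (hM : ∀ m : M, p • m = 0)
    (μ : M →ₗ[k] M ⊗[k] A) {ρ : V →ₗ[k] V ⊗[k] A} {σ : W →ₗ[k] W ⊗[k] A} {f : V →ₗ[k] W}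
    (hf : IsHomMod p ρ σ f) : IsHom (tens μ ρ) (tens μ σ) (f.lTensor M) := by
  refine TensorProduct.ext' fun m v => ?_
  obtain ⟨y, hy⟩ := hf v
  rw [LinearMap.comp_apply, LinearMap.comp_apply, LinearMap.lTensor_tmul, tens_tmul, tens_tmul, hy,
    TensorProduct.tmul_add, map_add]
  have h0 : mulMid k A M W (μ m ⊗ₜ[k] (p • y)) = 0 := by
    have : p • μ m = 0 := by rw [← map_smul, hM, map_zero]
    rw [← TensorProduct.smul_tmul, this, TensorProduct.zero_tmul, map_zero]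
  rw [h0, add_zero]
  generalize μ m = a
  generalize ρ v = b
  induction a with
  | zero => simp
  | add x y hx hy => simp only [map_add, TensorProduct.add_tmul, hx, hy]
  | tmul x a =>
    induction b with
    | zero => simp
    | add x y hx hy => simp only [map_add, TensorProduct.tmul_add, hx, hy]
    | tmul y b => simp

end Defs

section Main

variable {A : Type*} [CommRing A] [Bialgebra k A] {B : Type*} [CommRing B] [Bialgebra k B]
variable {T : Type*} [AddCommGroup T] [Module k T] {p : k}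

/-- OUT1 modulo `p`, first half: the unit. -/
theorem sK_unit_mod {δ : A} {N K : ℕ} (hK : K ≤ N) {R : A ⊗[k] T →ₗ[k] T}
    (hR1 : ∀ t, ∃ y, R ((δ ^ N) ⊗ₜ t) = t + p • y) (t : T) :
    ∃ y, sK δ N K R ((δ ^ K) ⊗ₜ t) = t + p • y := by
  rw [sK_tmul, ← pow_add, Nat.add_sub_cancel' hK]
  exact hR1 t

/-- OUT1 modulo `p`, second half: equivariance over `B`. -/
theorem sK_isHomMod (φ : A →ₐ[k] B) {δ : A} (hδ : CoalgebraStruct.comul (R := k) δ = δ ⊗ₜ[k] δ)
    {ε : B} (h : φ δ * ε = 1) {N K : ℕ} (hK : K ≤ N) (ρ : T →ₗ[k] T ⊗[k] A)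
    {R : A ⊗[k] T →ₗ[k] T}
    (hR : IsHomMod p (tens (CoalgebraStruct.comul (R := k) (A := A)) ρ) (twist ρ (δ ^ N)) R) :
    IsHomMod p (tens (coK φ ε K) (push φ ρ)) (push φ ρ) (sK δ N K R) := by
  have h1 : IsHomMod p (twist (tens (CoalgebraStruct.comul (R := k) (A := A)) ρ) (δ ^ (N - K)))
      (twist ρ (δ ^ N)) (sK δ N K R) := by
    refine hR.comp ?_
    rw [← tens_twist_left]
    exact ((mulRight_isHom (comul_pow hδ (N - K))).tens_left ρ).toMod p
  have h2 := (h1.push φ).twist (ε ^ N)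
  rw [push_twist, push_twist, twist_twist, twist_twist] at h2
  have e1 : φ (δ ^ N) * ε ^ N = 1 := by rw [map_pow, ← mul_pow, h, one_pow]
  have e2 : φ (δ ^ (N - K)) * ε ^ N = ε ^ K := by
    have : ε ^ N = ε ^ (N - K) * ε ^ K := by rw [← pow_add, Nat.sub_add_cancel hK]
    rw [this, ← mul_assoc, map_pow, ← mul_pow, h, one_pow, one_mul]
  rw [e1, e2, twist_one] at h2
  rw [coK, tens_twist_left, tens_push]
  exact h2

end Main

end Groth.Agent.ResProp.EF.K701.Out
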