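import Groth.Agent.ResProp.EF.K65.Defs

/-!
# Block T: node (T4)

The product of the `(q-1)`-st powers of the leading minors lies in `T` and has value `1` at the
standard vectors.
-/

set_option autoImplicit false

open MvPolynomial Groth.Agent.ResProp.EF.K65

namespace Groth.Agent.ResProp.EF.K701

universe u

variable {R : Type u} [CommRing R]

/-- the leading minor of size `l` of the generic `m × N` matrix -/
noncomputable def minorD (R : Type u) [CommRing R] {m N : ℕ} (l : ℕ) (h : l ≤ m) (h' : l ≤ N) :
    P m N R :=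
  (Matrix.of fun (i k : Fin l) => (X (Fin.castLE h i, Fin.castLE h' k) : P m N R)).det

lemma ev_minorD {m N l : ℕ} (h : l ≤ m) (h' : l ≤ N) {S : Type u} [CommRing S] [Algebra R S]
    (Y : Matrix (Fin m) (Fin N) S) : ev Y (minorD R l h h') =
      (Matrix.of fun (i k : Fin l) => Y (Fin.castLE h i) (Fin.castLE h' k)).det := by
  rw [minorD, AlgHom.map_det]
  congr 1
  ext i k
  simp [ev]

lemma minorD_MH {m N l : ℕ} (h : l ≤ m) (h' : l ≤ N) :
    MH (∑ i : Fin l, Pi.single (Fin.castLE h i) 1) (minorD R l h h') := by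
  rw [minorD, ← Matrix.det_transpose, Matrix.det_apply]
  refine (weightedHomogeneousSubmodule R (wt m N) _).sum_mem fun σ _ => ?_
  refine (weightedHomogeneousSubmodule R (wt m N) _).smul_of_tower_mem _ ?_
  rw [mem_weightedHomogeneousSubmodule]
  refine IsWeightedHomogeneous.prod _ _ _ fun i _ => ?_
  exact isWeightedHomogeneous_X R (wt m N) (Fin.castLE h i, Fin.castLE h' (σ i))

lemma minorD_inv {m N l : ℕ} (h : l ≤ m) (h' : l ≤ N) : Inv 0 (minorD R l h h') := by
  intro S _ _ Y c i j hij _
  rw [ev_minorD, ev_minorD]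
  by_cases hj : (j : ℕ) < l
  · have hi : (i : ℕ) < l := lt_trans hij hj
    have h1 : (Matrix.of fun (a k : Fin l) => (Y.updateRow j (Y j + c • Y i)) (Fin.castLE h a)
        (Fin.castLE h' k)) =
      (Matrix.of fun (a k : Fin l) => Y (Fin.castLE h a) (Fin.castLE h' k)).updateRow ⟨j, hj⟩
        ((Matrix.of fun (a k : Fin l) => Y (Fin.castLE h a) (Fin.castLE h' k)) ⟨j, hj⟩ +
          c • (Matrix.of fun (a k : Fin l) => Y (Fin.castLE h a) (Fin.castLE h' k)) ⟨i, hi⟩) := by
      ext a k
      by_cases ha : a = ⟨j, hj⟩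
      · subst ha
        simp [Fin.castLE]
      · have ha' : Fin.castLE h a ≠ j := by
          intro h2
          apply ha
          ext
          simpa using congrArg Fin.val h2
        rw [Matrix.updateRow_ne ha, Matrix.of_apply, Matrix.of_apply, Matrix.updateRow_ne ha']
    rw [h1, Matrix.det_updateRow_add_smul_self]
    intro h2
    have := congrArg Fin.val h2
    simp only at this
    omega
  · congr 1
    ext a k
    have ha' : Fin.castLE h a ≠ j := by
      intro h2
      apply hj
      rw [← h2]
      exact a.2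
    rw [Matrix.of_apply, Matrix.of_apply, Matrix.updateRow_ne ha']

lemma minorD_weight {m l : ℕ} (h : l ≤ m) (a : Fin m) :
    (∑ i : Fin l, Pi.single (Fin.castLE h i) 1 : Fin m → ℕ) a = if (a : ℕ) < l then 1 else 0 := by
  rw [Finset.sum_apply]
  split_ifs with ha
  · rw [Finset.sum_eq_single ⟨a, ha⟩]
    · simp [Fin.castLE]
    · intro b _ hb
      rw [Pi.single_eq_of_ne]
      intro h2
      apply hb
      ext
      have := congrArg Fin.val h2
      simpa using this.symm
    · intro h2
      exact absurd (Finset.mem_univ _) h2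
  · refine Finset.sum_eq_zero fun b _ => ?_
    rw [Pi.single_eq_of_ne]
    intro h2
    apply ha
    rw [h2]
    exact b.2

/-- (T4) -/
theorem t4 : T4.{u} := by
  intro R _ m q
  refine ⟨∏ j : Fin m, minorD R (j + 1) (by omega) (by omega) ^ (q - 1), ⟨?_, ?_⟩, ?_⟩
  · have h : mu m q = ∑ j : Fin m, (q - 1) •
        ∑ i : Fin ((j : ℕ) + 1), Pi.single (Fin.castLE (show (j : ℕ) + 1 ≤ m by omega) i) 1 := by
      funext a
      rw [Finset.sum_apply]
      simp only [Pi.smul_apply, minorD_weight, smul_eq_mul, mul_ite, mul_one, mul_zero]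
      rw [← Finset.sum_filter, Finset.sum_const, smul_eq_mul, mu]
      congr 1
      have h1 : (Finset.univ.filter fun j : Fin m => (a : ℕ) < (j : ℕ) + 1) = Finset.Ici a := by
        ext j
        simp only [Finset.mem_filter, Finset.mem_univ, true_and, Finset.mem_Ici, Fin.le_def]
        omega
      rw [h1, Fin.card_Ici]
    unfold MH
    rw [h]
    refine IsWeightedHomogeneous.prod _ _ _ fun j _ => ?_
    exact (minorD_MH _ _).pow (q - 1)
  · intro S _ _ Y c i j hij h0
    rw [map_prod, map_prod]
    refine Finset.prod_congr rfl fun l _ => ?_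
    rw [map_pow, map_pow, minorD_inv _ _ S Y c i j hij h0]
  · rw [map_prod]
    refine Finset.prod_eq_one fun j _ => ?_
    rw [map_pow, ev_minorD]
    have h1 : (Matrix.of fun (i k : Fin ((j : ℕ) + 1)) =>
        (Matrix.of fun (i : Fin m) (j : Fin (m + 1)) => if (i : ℕ) = (j : ℕ) then (1 : R) else 0)
          (Fin.castLE (show (j : ℕ) + 1 ≤ m by omega) i)
          (Fin.castLE (show (j : ℕ) + 1 ≤ m + 1 by omega) k)) = 1 := by
      ext i k
      simp [Matrix.one_apply, Fin.ext_iff]
    rw [h1, Matrix.det_one, one_pow]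

end Groth.Agent.ResProp.EF.K701
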