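import Groth.Agent.ResProp.EF.Grp
import Groth.Agent.ComodTens.K888.DualExists
import Mathlib.LinearAlgebra.Matrix.ToLin

/-!
# `End T` as a module over a group, `T` finite free

`nonempty_endStr`: `EndStr T` exists for `T` finite free.
`curry_mod`: a linear map `s : Q ⊗ T → T` which is a map of comodules modulo `p` gives a map
`Q → End T` of comodules modulo `p`, for every comodule structure on `End T` for which evaluation
is a comodule map.
-/

set_option autoImplicit false

open TensorProduct ComodTens K888.DualExists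

namespace Groth.Agent.ResProp.EF.K701.EndT

universe u v w

section Construction

variable {k : Type u} [CommRing k] {A : Type v} [CommRing A] [HopfAlgebra k A]
variable {V : Type w} [AddCommGroup V] [Module k V] {ι : Type*} [Fintype ι] [DecidableEq ι]
  (b : Module.Basis ι k V) (c : HopfRep.Comod k A V)

lemma antipode_mul_sum (i l : ι) :
    ∑ j, HopfAlgebraStruct.antipode k (coef b c i j) * coef b c j l = if i = l then 1 else 0 := by
  have h := HopfAlgebra.mul_antipode_rTensor_comul_apply (R := k) (coef b c i l)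
  rw [comul_coef, counit_coef] at h
  simp only [map_sum, LinearMap.rTensor_tmul, LinearMap.mul'_apply] at h
  rw [h]
  split_ifs <;> simp

lemma mul_antipode_sum (i l : ι) :
    ∑ j, coef b c i j * HopfAlgebraStruct.antipode k (coef b c j l) = if i = l then 1 else 0 := by
  have h := HopfAlgebra.mul_antipode_lTensor_comul_apply (R := k) (coef b c i l)
  rw [comul_coef, counit_coef] at h
  simp only [map_sum, LinearMap.lTensor_tmul, LinearMap.mul'_apply] at h
  rw [h]
  split_ifs <;> simp

omit [DecidableEq ι] in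
lemma sum4 {M : Type*} [AddCommMonoid M] (G : ι → ι → ι → ι → M) :
    ∑ x, ∑ y, ∑ z, ∑ w, G x y z w = ∑ z, ∑ w, ∑ y, ∑ x, G x y z w := by
  calc _ = ∑ x, ∑ z, ∑ y, ∑ w, G x y z w := Finset.sum_congr rfl fun x _ => Finset.sum_comm
    _ = ∑ z, ∑ x, ∑ y, ∑ w, G x y z w := Finset.sum_comm
    _ = _ := Finset.sum_congr rfl fun z _ => by
      calc _ = ∑ x, ∑ w, ∑ y, G x y z w := Finset.sum_congr rfl fun x _ => Finset.sum_comm
        _ = ∑ w, ∑ x, ∑ y, G x y z w := Finset.sum_comm
        _ = _ := Finset.sum_congr rfl fun w _ => Finset.sum_comm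

/-- The comodule `End V`. -/
@[reducible] noncomputable def endComod : HopfRep.Comod k A (Module.End k V) where
  coact := b.end.constr k fun ac => ∑ ij : ι × ι,
    b.end ij ⊗ₜ[k] (coef b c ij.1 ac.1 * HopfAlgebraStruct.antipode k (coef b c ac.2 ij.2))
  coassoc := by
    apply b.end.ext
    rintro ⟨a, d⟩
    simp only [LinearMap.comp_apply, LinearEquiv.coe_coe, Module.Basis.constr_basis, map_sum,
      LinearMap.rTensor_tmul, LinearMap.lTensor_tmul, TensorProduct.sum_tmul, TensorProduct.assoc_tmul,
      Bialgebra.comul_mul, comul_antipode, comul_coef, TensorProduct.map_tmul,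
      TensorProduct.comm_tmul, TensorProduct.tmul_sum, Finset.sum_mul, Finset.mul_sum,
      Algebra.TensorProduct.tmul_mul_tmul, Fintype.sum_prod_type]
    exact sum4 _
  counit_comp := by
    apply b.end.ext
    rintro ⟨a, d⟩
    simp only [LinearMap.comp_apply, Module.Basis.constr_basis, map_sum, LinearMap.lTensor_tmul,
      LinearMap.flip_apply, TensorProduct.mk_apply, Bialgebra.counit_mul,
      HopfAlgebra.counit_antipode, counit_coef]
    rw [Finset.sum_eq_single (a, d)]
    · simp
    · rintro ⟨i, j⟩ _ hij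
      by_cases h1 : i = a
      · by_cases h2 : d = j
        · exact absurd (by rw [h1, h2]) hij
        · simp [h2]
      · simp [h1]
    · intro h
      exact absurd (Finset.mem_univ _) h

lemma endComod_coact (ac : ι × ι) : (endComod b c).coact (b.end ac) = ∑ ij : ι × ι,
    b.end ij ⊗ₜ[k] (coef b c ij.1 ac.1 * HopfAlgebraStruct.antipode k (coef b c ac.2 ij.2)) :=
  Module.Basis.constr_basis _ _ _ _

lemma end_apply_apply (ij : ι × ι) (l : ι) :
    (b.end ij) (b l) = if ij.2 = l then b ij.1 else 0 :=
  Module.Basis.end_apply_apply b ij l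

/-- Evaluation is a comodule map. -/
lemma ev_endComod : @Hoch.IsComodHom k _ A _ _ _ (Module.End k V ⊗[k] V) _ _
    (ComodTens.Comod.tensor (endComod b c) c) V _ _ c (TensorProduct.lift LinearMap.id) := by
  apply (b.end.tensorProduct b).ext
  rintro ⟨⟨a, d⟩, l⟩
  rw [Module.Basis.tensorProduct_apply]
  simp only [LinearMap.comp_apply]
  rw [tensor_coact_tmul_of_sum (endComod b c) c Finset.univ Finset.univ (b.end (a, d)) (b l)
    (fun ij => b.end ij)
    (fun ij => coef b c ij.1 a * HopfAlgebraStruct.antipode k (coef b c d ij.2)) b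
    (fun j => coef b c j l) (endComod_coact b c (a, d)) (coact_basis b c l)]
  simp only [TensorProduct.lift.tmul, LinearMap.id_apply, map_sum, LinearMap.rTensor_tmul,
    end_apply_apply]
  have h1 : c.coact (if d = l then b a else 0) = if d = l then ∑ i, b i ⊗ₜ[k] coef b c i a else 0 := by
    split_ifs
    · exact coact_basis b c a
    · rw [map_zero]
  rw [h1]
  have h2 : ∀ x : ι × ι, ∑ j, (if x.2 = j then b x.1 else 0) ⊗ₜ[k]
      (coef b c x.1 a * HopfAlgebraStruct.antipode k (coef b c d x.2) * coef b c j l) =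
      b x.1 ⊗ₜ[k] (coef b c x.1 a * (HopfAlgebraStruct.antipode k (coef b c d x.2) *
        coef b c x.2 l)) := by
    intro x
    rw [Finset.sum_eq_single x.2]
    · rw [if_pos rfl, mul_assoc]
    · intro j _ hj
      rw [if_neg (Ne.symm hj), TensorProduct.zero_tmul]
    · intro h
      exact absurd (Finset.mem_univ _) h
  simp only [h2, Fintype.sum_prod_type, ← TensorProduct.tmul_sum, ← Finset.mul_sum,
    antipode_mul_sum]
  split_ifs with h
  · simp
  · simp

/-! ### Adjunction -/

/-- `(V ⊗ A) ⊗ (W ⊗ A) → (V ⊗ W) ⊗ A`, as in the Prelude's tensor product of comodules. -/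
noncomputable def mid (k : Type u) [CommRing k] (A : Type v) [CommRing A] [Algebra k A]
    (V : Type*) [AddCommGroup V] [Module k V] (W : Type*) [AddCommGroup W] [Module k W] :
    (V ⊗[k] A) ⊗[k] (W ⊗[k] A) →ₗ[k] (V ⊗[k] W) ⊗[k] A :=
  TensorProduct.map LinearMap.id (LinearMap.mul' k A) ∘ₗ
    (AlgebraTensorModule.tensorTensorTensorComm k k k k V A W A).toLinearMap

lemma mid_tmul {W : Type*} [AddCommGroup W] [Module k W] (v : V) (a : A) (w : W) (a' : A) :
    mid k A V W ((v ⊗ₜ a) ⊗ₜ (w ⊗ₜ a')) = (v ⊗ₜ w) ⊗ₜ (a * a') := by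
  simp [mid]

lemma tensor_coact {W : Type*} [AddCommGroup W] [Module k W] (d : HopfRep.Comod k A W) (v : V)
    (w : W) : (ComodTens.Comod.tensor c d).coact (v ⊗ₜ[k] w) =
      mid k A V W (c.coact v ⊗ₜ d.coact w) := rfl

/-- Act with `x : End V ⊗ A` on `ρ v`. -/
noncomputable def Phi (v : V) : Module.End k V ⊗[k] A →ₗ[k] V ⊗[k] A :=
  (TensorProduct.lift (LinearMap.id : Module.End k V →ₗ[k] Module.End k V)).rTensor A ∘ₗ
    mid k A (Module.End k V) V ∘ₗ
      (TensorProduct.mk k (Module.End k V ⊗[k] A) (V ⊗[k] A)).flip (c.coact v)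

lemma Phi_apply (v : V) (x : Module.End k V ⊗[k] A) : Phi c v x =
    (TensorProduct.lift (LinearMap.id : Module.End k V →ₗ[k] Module.End k V)).rTensor A
      (mid k A (Module.End k V) V (x ⊗ₜ c.coact v)) := rfl

lemma Phi_basis (i j l : ι) (a : A) :
    Phi c (b l) (b.end (i, j) ⊗ₜ[k] a) = b i ⊗ₜ[k] (a * coef b c j l) := by
  rw [Phi_apply, coact_basis b c l, TensorProduct.tmul_sum, map_sum, map_sum,
    Finset.sum_eq_single j]
  · rw [mid_tmul, LinearMap.rTensor_tmul, TensorProduct.lift.tmul, LinearMap.id_apply,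
      end_apply_apply, if_pos rfl]
  · intro m _ hm
    rw [mid_tmul, LinearMap.rTensor_tmul, TensorProduct.lift.tmul, LinearMap.id_apply,
      end_apply_apply, if_neg (Ne.symm hm), TensorProduct.zero_tmul]
  · intro h
    exact absurd (Finset.mem_univ _) h

/-- A left inverse of `x ↦ (Phi (b l) x)_l`. -/
noncomputable def Psi (z : ι → V ⊗[k] A) : Module.End k V ⊗[k] A :=
  ∑ l, ∑ i, ∑ j, b.end (i, j) ⊗ₜ[k] (TensorProduct.lid k A ((b.coord i).rTensor A (z l)) *
    HopfAlgebraStruct.antipode k (coef b c l j))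

lemma Psi_add (z z' : ι → V ⊗[k] A) : Psi b c (fun l => z l + z' l) = Psi b c z + Psi b c z' := by
  simp only [Psi, map_add, add_mul, TensorProduct.tmul_add, Finset.sum_add_distrib]

lemma Psi_smul (r : k) (z : ι → V ⊗[k] A) : Psi b c (fun l => r • z l) = r • Psi b c z := by
  simp only [Psi, map_smul, smul_mul_assoc, TensorProduct.tmul_smul, Finset.smul_sum]

lemma Psi_Phi (x : Module.End k V ⊗[k] A) : Psi b c (fun l => Phi c (b l) x) = x := by
  have h : ∀ f a, Psi b c (fun l => Phi c (b l) (f ⊗ₜ[k] a)) = f ⊗ₜ[k] a := by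
    intro f a
    have hf : f = ∑ ij, b.end.repr f ij • b.end ij := (b.end.sum_repr f).symm
    have key : ∀ ij : ι × ι, Psi b c (fun l => Phi c (b l) (b.end ij ⊗ₜ[k] a)) =
        b.end ij ⊗ₜ[k] a := by
      rintro ⟨i, j⟩
      simp only [Psi, Phi_basis, LinearMap.rTensor_tmul, TensorProduct.lid_tmul,
        Module.Basis.coord_apply, Module.Basis.repr_self]
      have h1 : ∀ l, ∑ i', ∑ j', b.end (i', j') ⊗ₜ[k] ((Finsupp.single i (1 : k)) i' •
          (a * coef b c j l) * HopfAlgebraStruct.antipode k (coef b c l j')) =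
          ∑ j', b.end (i, j') ⊗ₜ[k] (a * (coef b c j l *
            HopfAlgebraStruct.antipode k (coef b c l j'))) := by
        intro l
        rw [Finset.sum_eq_single i]
        · simp [mul_assoc]
        · intro i' _ hi'
          refine Finset.sum_eq_zero fun j' _ => ?_
          rw [Finsupp.single_eq_of_ne hi', zero_smul, zero_mul, TensorProduct.tmul_zero]
        · intro h
          exact absurd (Finset.mem_univ _) h
      simp only [h1]
      rw [Finset.sum_comm]
      simp only [← TensorProduct.tmul_sum, ← Finset.mul_sum, mul_antipode_sum]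
      rw [Finset.sum_eq_single j]
      · simp
      · intro j' _ hj'
        rw [if_neg (Ne.symm hj'), mul_zero, TensorProduct.tmul_zero]
      · intro h
        exact absurd (Finset.mem_univ _) h
    have hlin : ∀ (s : Finset (ι × ι)) (r : ι × ι → k),
        Psi b c (fun l => Phi c (b l) ((∑ ij ∈ s, r ij • b.end ij) ⊗ₜ[k] a)) =
          (∑ ij ∈ s, r ij • b.end ij) ⊗ₜ[k] a := by
      intro s r
      induction s using Finset.induction_on with
      | empty =>
        simp only [Finset.sum_empty, TensorProduct.zero_tmul, map_zero]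
        have := Psi_smul b c (0 : k) (fun _ => (0 : V ⊗[k] A))
        simpa using this
      | insert ij s hs ih =>
        simp only [Finset.sum_insert hs, TensorProduct.add_tmul, map_add, Psi_add]
        rw [ih]
        congr 1
        simp only [← TensorProduct.smul_tmul', map_smul, Psi_smul, key]
    rw [hf]
    exact hlin _ _
  induction x with
  | zero =>
    simp only [map_zero]
    have := Psi_smul b c (0 : k) (fun _ => (0 : V ⊗[k] A))
    simpa using this
  | add x y hx hy => simp only [map_add, Psi_add, hx, hy]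
  | tmul f a => exact h f a

omit [Fintype ι] [DecidableEq ι] in
lemma Phi_rTensor {Q : Type*} [AddCommGroup Q] [Module k Q] (s : Q ⊗[k] V →ₗ[k] V) (v : V)
    (x : Q ⊗[k] A) : Phi c v ((TensorProduct.curry s).rTensor A x) =
      s.rTensor A (mid k A Q V (x ⊗ₜ c.coact v)) := by
  rw [Phi_apply]
  generalize c.coact v = y
  induction x with
  | zero => simp
  | add x y hx hy => simp only [map_add, TensorProduct.add_tmul, hx, hy]
  | tmul q a =>
    induction y with
    | zero => simp
    | add x y hx hy => simp only [map_add, TensorProduct.tmul_add, hx, hy]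
    | tmul w a' =>
      rw [LinearMap.rTensor_tmul, mid_tmul, mid_tmul, LinearMap.rTensor_tmul, LinearMap.rTensor_tmul]
      rfl

include b in
/-- The adjoint of a map `Q ⊗ V → V` which is a comodule map modulo `p`. -/
theorem curry_mod {Q : Type*} [AddCommGroup Q] [Module k Q] (dQ : HopfRep.Comod k A Q)
    (e : HopfRep.Comod k A (Module.End k V))
    (he : @Hoch.IsComodHom k _ A _ _ _ (Module.End k V ⊗[k] V) _ _
      (ComodTens.Comod.tensor e c) V _ _ c (TensorProduct.lift LinearMap.id))
    (p : k) (s : Q ⊗[k] V →ₗ[k] V)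
    (hs : ∀ q v, ∃ y, c.coact (s (q ⊗ₜ v)) =
      s.rTensor A ((ComodTens.Comod.tensor dQ c).coact (q ⊗ₜ[k] v)) + p • y) (q : Q) :
    ∃ y, e.coact (TensorProduct.curry s q) - (TensorProduct.curry s).rTensor A (dQ.coact q) =
      p • y := by
  choose y hy using fun l => hs q (b l)
  refine ⟨Psi b c y, ?_⟩
  rw [← Psi_smul, ← Psi_Phi b c (e.coact (TensorProduct.curry s q) -
    (TensorProduct.curry s).rTensor A (dQ.coact q))]
  congr 1
  funext l
  have h1 : c.coact (s (q ⊗ₜ b l)) = Phi c (b l) (e.coact (TensorProduct.curry s q)) :=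
    LinearMap.congr_fun he ((TensorProduct.curry s q) ⊗ₜ[k] (b l))
  rw [map_sub, ← h1, hy, Phi_rTensor, tensor_coact]
  abel

end Construction

section Grp

open Groth.Agent.ResProp.EF.Grp

/-- `End T` is a module for `T` finite free. -/
theorem nonempty_endStr {k : Type u} [CommRing k] {E : Gp k} (T : GMod E) (hf : Module.Free k T.V)
    (hfin : Module.Finite k T.V) : Nonempty (EndStr T) := by
  classical
  exact ⟨⟨endComod (Module.Free.chooseBasis k T.V) T.co,
    ev_endComod (Module.Free.chooseBasis k T.V) T.co⟩⟩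

/-- The adjunction for `EndStr`. -/
theorem curry_mod_endStr {k : Type u} [CommRing k] {E : Gp k} (Q T : GMod E)
    (hf : Module.Free k T.V) (hfin : Module.Finite k T.V) (e : EndStr T) (p : k)
    (s : Q.V ⊗[k] T.V →ₗ[k] T.V)
    (hs : ∀ q v, ∃ y, T.co.coact (s (q ⊗ₜ v)) =
      s.rTensor E.O ((ComodTens.Comod.tensor Q.co T.co).coact (q ⊗ₜ[k] v)) + p • y) (q : Q.V) :
    ∃ y, e.co.coact (TensorProduct.curry s q) -
      (TensorProduct.curry s).rTensor E.O (Q.co.coact q) = p • y := by
  classical
  exact curry_mod (Module.Free.chooseBasis k T.V) T.co Q.co e.co e.ev p s hs q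

/-- `f = 1` modulo `p` pointwise implies `f = 1 + p g`. -/
theorem exists_eq_one_add {k : Type u} [CommRing k] {V : Type v} [AddCommGroup V] [Module k V]
    [Module.Free k V] (p : k) (f : Module.End k V) (h : ∀ v, ∃ y, f v = v + p • y) :
    ∃ g : Module.End k V, f = 1 + p • g := by
  choose y hy using h
  let b := Module.Free.chooseBasis k V
  refine ⟨b.constr k fun i => y (b i), ?_⟩
  apply b.ext
  intro i
  rw [hy, LinearMap.add_apply, LinearMap.smul_apply, Module.Basis.constr_basis]
  rfl

end Grp

end Groth.Agent.ResProp.EF.K701.EndT
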