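import Groth.Agent.ResProp.EF.K206.TMod
import Groth.Agent.ResProp.EF.K701.T4
import Mathlib.LinearAlgebra.FreeModule.PID
import Mathlib.RingTheory.Polynomial.Basic
import Mathlib.RingTheory.MvPolynomial.WeightedHomogeneous

/-!
# The killing module is finite, free over a principal ideal domain, and nonzero
-/

set_option autoImplicit false

open MvPolynomial

namespace Groth.Agent.ResProp.EF.K701.TFin

open K65 K206

universe u

variable (m q : ℕ) (R : Type u) [CommRing R]

/-- polynomials of given row degrees: a finite module -/
theorem finite_MH {r N : ℕ} (μ : Fin r → ℕ) :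
    Module.Finite R (weightedHomogeneousSubmodule R (wt r N) μ) := by
  rw [weightedHomogeneousSubmodule_eq_finsupp_supported]
  have hfin : Set.Finite {d : Fin r × Fin N →₀ ℕ | Finsupp.weight (wt r N) d = μ} := by
    refine Set.Finite.subset (Set.finite_Iic (Finsupp.equivFunOnFinite.symm
      (fun ij : Fin r × Fin N => μ ij.1))) fun d hd => ?_
    intro ij
    have h : (Finsupp.weight (wt r N) d) ij.1 = μ ij.1 := congrFun hd ij.1
    rw [← show μ ij.1 = (Finsupp.equivFunOnFinite.symm (fun ij : Fin r × Fin N => μ ij.1)) ij from rfl,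
      ← h, Finsupp.weight_apply, Finsupp.sum_fintype _ _ (by simp), Finset.sum_apply]
    refine le_trans ?_ (Finset.single_le_sum (f := fun x : Fin r × Fin N => (d x • wt r N x) ij.1)
      (fun _ _ => Nat.zero_le _) (Finset.mem_univ ij))
    simp [wt]
  have := hfin.to_subtype
  exact Module.Finite.of_basis (basisRestrictSupport R {d | Finsupp.weight (wt r N) d = μ})

theorem TT_le : TT m q R ≤ weightedHomogeneousSubmodule R (wt m (m + 1)) (mu m q) := by
  intro f hf
  exact (mem_TT.1 hf).1

theorem finite_TT [IsNoetherianRing R] : Module.Finite R (TT m q R) := by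
  have := finite_MH R (r := m) (N := m + 1) (mu m q)
  exact Module.Finite.of_injective (Submodule.inclusion (TT_le m q R))
    (Submodule.inclusion_injective _)

theorem free_TT [IsDomain R] [IsPrincipalIdealRing R] : Module.Free R (TT m q R) := by
  have := finite_TT m q R
  exact Module.free_of_finite_type_torsion_free'

theorem nontrivial_TT [Nontrivial R] : Nontrivial (TT m q R) := by
  obtain ⟨f, hf, h1⟩ := t4 R m q
  refine ⟨⟨f, mem_TT.2 hf⟩, 0, fun h => ?_⟩
  have h2 : f = 0 := congrArg Subtype.val h
  rw [h2, map_zero] at h1
  exact zero_ne_one h1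

end Groth.Agent.ResProp.EF.K701.TFin
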