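import Groth.Agent.ResProp.EF.K701.LamGL
import Groth.Agent.ResProp.EF.K701.TFin
import Groth.Agent.ResProp.EF.K206.RL

/-!
# OUT for `GL_N`, `N = m + 1`, with the killing module `TT m (p^s) k`
-/

set_option autoImplicit false

namespace Groth.Agent.ResProp.EF.K701.InputGL

open K206

universe u

theorem input (p : ℕ) (k : Type u) [CommRing k] [Grp.IsLb p k] (m : ℕ) : GL.Input p (m + 1) k := by
  have hp : p.Prime := Grp.IsLb.prime k
  have : Fact p.Prime := ⟨hp⟩
  have : IsDomain k := Grp.IsLb.dom p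
  have : CharZero k := Grp.IsLb.char0 p
  have : IsPrincipalIdealRing k := Grp.IsLb.pid p
  have hk : IsSMulRegular k ((p : ℕ) : k) :=
    (IsRegular.of_ne_zero (Nat.cast_ne_zero.2 hp.ne_zero)).left
  intro K
  have hK : K ≤ p ^ (K + 1) - 1 := by
    have h1 : K + 1 < p ^ (K + 1) := Nat.lt_pow_self hp.one_lt
    omega
  exact ⟨p ^ (K + 1) - 1, hK, TT m (p ^ (K + 1)) k, inferInstance, inferInstance,
    comodT m (p ^ (K + 1)) k, rrL m (p ^ (K + 1)) k, TFin.free_TT m _ k, TFin.finite_TT m _ k,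
    TFin.nontrivial_TT m _ k, rrL_unit hk (K + 1), rrL_isHomMod hk (K + 1)⟩

/-- **OUT for `GL_(m+1)`** -/
theorem out_GL (p : ℕ) (k : Type u) [CommRing k] [Grp.IsLb p k] (m : ℕ) :
    K749.Out p (K653.GpGL (m + 1) k) :=
  GL.out_GL_of (input p k m)

end Groth.Agent.ResProp.EF.K701.InputGL
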