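import Mathlib.RingTheory.Coalgebra.Basic
import Mathlib.LinearAlgebra.TensorProduct.Basic
import Mathlib.LinearAlgebra.TensorProduct.Tower
import Mathlib.LinearAlgebra.TensorProduct.Associator
import Mathlib.LinearAlgebra.Basis.VectorSpace

/-!
# Cofree comodules are injective

`k` a field, `A` a coalgebra over `k`, `S` a vector space.  A comodule structure is here just a linear
map `ρ : V → V ⊗ A` with the two axioms `IsComod`.

* `extend`: every comodule map `P → S ⊗ A` extends along an injective comodule map `P → Q`.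
* `retraction`: if `P` is a direct summand of a cofree comodule, every injective comodule map
  `P → Q` has a retraction which is a comodule map.
-/

set_option autoImplicit false

universe u v w

open TensorProduct

namespace Groth.Agent.ResProp.EF.K701

variable {k : Type u} [Field k] {A : Type v} [AddCommGroup A] [Module k A] [Coalgebra k A]

section
variable {V : Type*} [AddCommGroup V] [Module k V]

/-- `ρ` is a comodule structure on `V`. -/
structure IsComod (ρ : V →ₗ[k] V ⊗[k] A) : Prop where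
  coassoc : (TensorProduct.assoc k V A A).toLinearMap ∘ₗ ρ.rTensor A ∘ₗ ρ =
    (CoalgebraStruct.comul (R := k) (A := A)).lTensor V ∘ₗ ρ
  counit : (CoalgebraStruct.counit (R := k) (A := A)).lTensor V ∘ₗ ρ =
    (TensorProduct.mk k V k).flip 1

end

section
variable {V W : Type*} [AddCommGroup V] [Module k V] [AddCommGroup W] [Module k W]

/-- `f` is a map of comodules. -/
def IsHom (ρ : V →ₗ[k] V ⊗[k] A) (σ : W →ₗ[k] W ⊗[k] A) (f : V →ₗ[k] W) : Prop :=
  σ ∘ₗ f = f.rTensor A ∘ₗ ρ

end

/-- The cofree comodule on `S`. -/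
noncomputable def cofree (k : Type u) [Field k] (A : Type v) [AddCommGroup A] [Module k A]
    [Coalgebra k A] (S : Type w) [AddCommGroup S] [Module k S] :
    (S ⊗[k] A) →ₗ[k] (S ⊗[k] A) ⊗[k] A :=
  (TensorProduct.assoc k S A A).symm.toLinearMap ∘ₗ
    (CoalgebraStruct.comul (R := k) (A := A)).lTensor S

section
variable {S : Type*} [AddCommGroup S] [Module k S]
variable {P : Type*} [AddCommGroup P] [Module k P]
variable {Q : Type*} [AddCommGroup Q] [Module k Q]

/-- The comodule map to the cofree comodule given by a linear map. -/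
noncomputable def toCofree (ρ : Q →ₗ[k] Q ⊗[k] A) (g : Q →ₗ[k] S) : Q →ₗ[k] S ⊗[k] A :=
  g.rTensor A ∘ₗ ρ

omit [Coalgebra k A] in
lemma assoc_rTensor_rTensor (g : Q →ₗ[k] S) (x : (Q ⊗[k] A) ⊗[k] A) :
    TensorProduct.assoc k S A A ((g.rTensor A).rTensor A x) =
      g.rTensor (A ⊗[k] A) (TensorProduct.assoc k Q A A x) := by
  induction x with
  | zero => simp
  | add x y hx hy => simp only [map_add, hx, hy]
  | tmul x a =>
    induction x with
    | zero => simp
    | add x y hx hy => simp only [map_add, TensorProduct.add_tmul, hx, hy]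
    | tmul x b => simp

lemma toCofree_isHom {ρ : Q →ₗ[k] Q ⊗[k] A} (hρ : IsComod ρ) (g : Q →ₗ[k] S) :
    IsHom ρ (cofree k A S) (toCofree ρ g) := by
  refine LinearMap.ext fun q => ?_
  have h1 : (TensorProduct.assoc k Q A A) (ρ.rTensor A (ρ q)) =
    (CoalgebraStruct.comul (R := k) (A := A)).lTensor Q (ρ q) := LinearMap.congr_fun hρ.coassoc q
  apply (TensorProduct.assoc k S A A).injective
  have h2 : (toCofree ρ g).rTensor A (ρ q) = (g.rTensor A).rTensor A (ρ.rTensor A (ρ q)) := by
    rw [toCofree, LinearMap.rTensor_comp, LinearMap.comp_apply]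
  change (TensorProduct.assoc k S A A) ((TensorProduct.assoc k S A A).symm _) =
    TensorProduct.assoc k S A A ((toCofree ρ g).rTensor A (ρ q))
  rw [LinearEquiv.apply_symm_apply, h2, assoc_rTensor_rTensor, h1]
  change ((CoalgebraStruct.comul (R := k) (A := A)).lTensor S) (g.rTensor A (ρ q)) = _
  generalize ρ q = x
  induction x with
  | zero => simp
  | add x y hx hy => simp only [map_add, hx, hy]
  | tmul x a => simp

/-- The counit of the adjunction. -/
noncomputable def cofreeCounit (k : Type u) [Field k] (A : Type v) [AddCommGroup A] [Module k A]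
    [Coalgebra k A] (S : Type w) [AddCommGroup S] [Module k S] : (S ⊗[k] A) →ₗ[k] S :=
  (TensorProduct.rid k S).toLinearMap ∘ₗ (CoalgebraStruct.counit (R := k) (A := A)).lTensor S

lemma cofreeCounit_rTensor_cofree (x : S ⊗[k] A) :
    (cofreeCounit k A S).rTensor A (cofree k A S x) = x := by
  induction x with
  | zero => simp
  | add x y hx hy => simp only [map_add, hx, hy]
  | tmul s a =>
    have h : ∀ y : A ⊗[k] A, (cofreeCounit k A S).rTensor A
        ((TensorProduct.assoc k S A A).symm (s ⊗ₜ y)) =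
        s ⊗ₜ (TensorProduct.lid k A ((CoalgebraStruct.counit (R := k) (A := A)).rTensor A y)) := by
      intro y
      induction y with
      | zero => simp
      | add x y hx hy => simp only [map_add, TensorProduct.tmul_add, hx, hy]
      | tmul b c =>
        simp [cofreeCounit, TensorProduct.smul_tmul]
    change (cofreeCounit k A S).rTensor A ((TensorProduct.assoc k S A A).symm
      ((CoalgebraStruct.comul (R := k) (A := A)).lTensor S (s ⊗ₜ a))) = _
    rw [LinearMap.lTensor_tmul, h, Coalgebra.rTensor_counit_comul]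
    simp

/-- Every comodule map to a cofree comodule comes from a linear map. -/
lemma eq_toCofree {ρ : Q →ₗ[k] Q ⊗[k] A} {f : Q →ₗ[k] S ⊗[k] A} (hf : IsHom ρ (cofree k A S) f) :
    f = toCofree ρ (cofreeCounit k A S ∘ₗ f) := by
  refine LinearMap.ext fun q => ?_
  have h := LinearMap.congr_fun hf q
  rw [LinearMap.comp_apply, LinearMap.comp_apply] at h
  rw [toCofree, LinearMap.rTensor_comp, LinearMap.comp_apply, LinearMap.comp_apply, ← h,
    cofreeCounit_rTensor_cofree]

/-- A cofree comodule over a field is injective. -/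
theorem extend {ρP : P →ₗ[k] P ⊗[k] A} {ρQ : Q →ₗ[k] Q ⊗[k] A} (hQ : IsComod ρQ)
    {i : P →ₗ[k] Q} (hi : IsHom ρP ρQ i) (hinj : Function.Injective i)
    {f : P →ₗ[k] S ⊗[k] A} (hf : IsHom ρP (cofree k A S) f) :
    ∃ g : Q →ₗ[k] S ⊗[k] A, IsHom ρQ (cofree k A S) g ∧ g ∘ₗ i = f := by
  obtain ⟨r, hr⟩ := i.exists_leftInverse_of_injective (LinearMap.ker_eq_bot.2 hinj)
  refine ⟨toCofree ρQ (cofreeCounit k A S ∘ₗ f ∘ₗ r), toCofree_isHom hQ _, ?_⟩
  conv_rhs => rw [eq_toCofree hf]
  rw [toCofree, toCofree, LinearMap.comp_assoc, hi, ← LinearMap.comp_assoc, ← LinearMap.rTensor_comp]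
  rw [LinearMap.comp_assoc, LinearMap.comp_assoc, hr, LinearMap.comp_id]

omit [Coalgebra k A] in
lemma IsHom.comp {V W X : Type*} [AddCommGroup V] [Module k V] [AddCommGroup W] [Module k W]
    [AddCommGroup X] [Module k X] {ρ : V →ₗ[k] V ⊗[k] A} {σ : W →ₗ[k] W ⊗[k] A}
    {τ : X →ₗ[k] X ⊗[k] A} {g : W →ₗ[k] X} {f : V →ₗ[k] W} (hg : IsHom σ τ g) (hf : IsHom ρ σ f) :
    IsHom ρ τ (g ∘ₗ f) := by
  unfold IsHom at *
  rw [← LinearMap.comp_assoc, hg, LinearMap.comp_assoc, hf, LinearMap.rTensor_comp,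
    LinearMap.comp_assoc]

/-- A direct summand of a cofree comodule is injective: every injective comodule map out of it has a
retraction. -/
theorem retraction {ρP : P →ₗ[k] P ⊗[k] A} {ρQ : Q →ₗ[k] Q ⊗[k] A} (hQ : IsComod ρQ)
    {i : P →ₗ[k] Q} (hi : IsHom ρP ρQ i) (hinj : Function.Injective i)
    {j : P →ₗ[k] S ⊗[k] A} (hj : IsHom ρP (cofree k A S) j)
    {r : S ⊗[k] A →ₗ[k] P} (hr : IsHom (cofree k A S) ρP r) (hrj : r ∘ₗ j = LinearMap.id) :
    ∃ s : Q →ₗ[k] P, IsHom ρQ ρP s ∧ s ∘ₗ i = LinearMap.id := by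
  obtain ⟨g, hg, hgi⟩ := extend hQ hi hinj hj
  exact ⟨r ∘ₗ g, hr.comp hg, by rw [LinearMap.comp_assoc, hgi, hrj]⟩

end

end Groth.Agent.ResProp.EF.K701
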